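import Cfsg.Prelude.Def_Transfer
import Cfsg.Agent.Lib.Coprime.Commutator
import Cfsg.Agent.Lib.Balance.Locals
import Cfsg.Agent.Lib.Cores.Basic
import Cfsg.Agent.Lib.PSolvable.HallHigman

/-!
# Control of the `q'`-core by centralisers of coprime operators

`H` normal with a coprime operator group `P`, `⁅H, P⁆` solvable, `z` a `q`-element of `C_H(P)`: the
`q'`-subgroups normal in `C_H(z)`, respectively `C_H(P)`, are controlled by `O_{q'}(H)`.
-/

set_option autoImplicit false

open Cfsg

namespace Cfsg.Agent.Lib.CoreControl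

variable {G : Type*} [Group G] [Finite G]

/-- The characteristic core of a normal subgroup, pushed into the group, is normal. -/
theorem normal_map_subtype {L : Subgroup G} [L.Normal] (C : Subgroup ↥L) [C.Characteristic] :
    (C.map L.subtype).Normal :=
  inferInstance

/-- `O_{q'}(L) = 1` for `L ≤ H` normal when `H` has no normal `q'`-subgroup of `G`. -/
theorem pPrimeCore_sub_eq_bot {q : ℕ} {H L : Subgroup G} [L.Normal] (hL : L ≤ H)
    (hcore : ∀ M : Subgroup G, M.Normal → M ≤ H → (Nat.card M).Coprime q → M = ⊥) :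
    Cfsg.pPrimeCore q ↥L = ⊥ := by
  have h := hcore ((Cfsg.pPrimeCore q ↥L).map L.subtype) (normal_map_subtype _)
    ((Subgroup.map_subtype_le _).trans hL)
    (by rw [Subgroup.card_map_of_injective L.subtype_injective]; exact Cores.pPrimeCore_coprime q)
  exact (Subgroup.map_eq_bot_iff_of_injective _ L.subtype_injective).1 h

/-- The situation with trivial `q'`-core. -/
theorem core_free_case {p q : ℕ} [Fact p.Prime] [Fact q.Prime] (H P : Subgroup G) [H.Normal]
    (htop : H ⊔ P = ⊤) (hP : IsPGroup p P) (hcop : (Nat.card P).Coprime (Nat.card H))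
    (hsol : Group.IsSolvable ↥⁅H, P⁆)
    (hcore : ∀ M : Subgroup G, M.Normal → M ≤ H → (Nat.card M).Coprime q → M = ⊥)
    {z : G} (hz : z ∈ H) (hzq : IsPGroup q (Subgroup.zpowers z))
    (A B : Subgroup G) (hA : A ≤ H ⊓ Subgroup.centralizer ({z} : Set G))
    (hAq : (Nat.card A).Coprime q)
    (hAn : H ⊓ Subgroup.centralizer ({z} : Set G) ≤ Subgroup.normalizer (A : Set G))
    (hAP : P ≤ Subgroup.normalizer (A : Set G))
    (hB : B ≤ H ⊓ Subgroup.centralizer (P : Set G)) (hBq : (Nat.card B).Coprime q)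
    (hBn : H ⊓ Subgroup.centralizer (P : Set G) ≤ Subgroup.normalizer (B : Set G)) :
    ⁅A, P⁆ = ⊥ ∧ A ⊓ B = ⊥ := by
  set K : Subgroup G := ⁅H, P⁆ with hK
  have hPH : P ≤ Subgroup.normalizer (H : Set G) := fun x _ =>
    (Subgroup.normalizer_eq_top (H := H)) ▸ Subgroup.mem_top x
  have hKH : K ≤ H := Coprime.commutator_le_of_le_normalizer hPH
  haveI hKn : K.Normal := Subgroup.normalizer_eq_top_iff.1 (top_le_iff.1 (htop ▸
    sup_le (Coprime.left_le_normalizer_commutator H P) (Coprime.right_le_normalizer_commutator H P)))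
  set Q : Subgroup G := (Cfsg.pCore q ↥K).map K.subtype with hQ
  haveI hQn : Q.Normal := normal_map_subtype _
  have hQK : Q ≤ K := Subgroup.map_subtype_le _
  have hQq : IsPGroup q Q := (Cores.pCore_isPGroup (G := ↥K) q).map _
  have hnorm : ∀ (N : Subgroup G) [N.Normal] (X : Subgroup G),
      X ≤ Subgroup.normalizer (N : Set G) := fun N _ X x _ =>
    (Subgroup.normalizer_eq_top (H := N)) ▸ Subgroup.mem_top x
  -- the centraliser of `Q` in `K`
  have hself : K ⊓ Subgroup.centralizer (Q : Set G) ≤ Q := by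
    rintro x ⟨hxK, hxC⟩
    haveI := hsol
    refine ⟨⟨x, hxK⟩, PSolvable.centralizer_pCore_le PSolvable.isPSolvable_of_isSolvable
      (pPrimeCore_sub_eq_bot hKH hcore) ?_, rfl⟩
    rw [Subgroup.mem_centralizer_iff]
    intro y hy
    exact Subtype.ext (Subgroup.mem_centralizer_iff.1 hxC _ ⟨y, hy, rfl⟩)
  have hQA : Disjoint Q A := by
    obtain ⟨n, hn⟩ := IsPGroup.iff_card.1 hQq
    exact disjoint_iff.2 (Subgroup.inf_eq_bot_of_coprime (by
      rw [hn]; exact (hAq.symm.pow_left n)))
  -- `A` centralises `Q`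
  have hAQ : A ≤ Subgroup.centralizer (Q : Set G) := by
    intro a ha
    refine Balance.mem_centralizer_pGroup hQq hzq (hnorm Q _) (hnorm Q A ha)
      (hAq.coprime_dvd_left (Subgroup.orderOf_dvd_natCard A ha)) ?_ ?_
    · rw [Subgroup.zpowers_eq_closure, Subgroup.centralizer_closure]
      exact (hA ha).2
    · intro u hu
      obtain ⟨huQ, huz⟩ := Subgroup.mem_inf.1 hu
      have huz' : u ∈ Subgroup.centralizer ({z} : Set G) :=
        Subgroup.centralizer_le (Set.singleton_subset_iff.2 (Subgroup.mem_zpowers z)) huz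
      have hun : u ∈ Subgroup.normalizer (A : Set G) := hAn ⟨hKH (hQK huQ), huz'⟩
      rw [Subgroup.mem_centralizer_singleton_iff]
      have h1 : u * a * u⁻¹ * a⁻¹ ∈ A :=
        A.mul_mem ((Subgroup.mem_normalizer_iff.1 hun a).1 ha) (A.inv_mem ha)
      have h2 : u * a * u⁻¹ * a⁻¹ ∈ Q := by
        have := Q.mul_mem huQ (hQn.conj_mem _ (Q.inv_mem huQ) a)
        convert this using 1
        group
      have h3 := Subgroup.mem_bot.1 (hQA.le_bot ⟨h2, h1⟩)
      rw [mul_inv_eq_one, mul_inv_eq_iff_eq_mul] at h3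
      exact h3
  have h1 : ⁅A, P⁆ = ⊥ := by
    refine le_bot_iff.1 (le_trans (le_inf ?_ (Coprime.commutator_le_of_le_normalizer hAP)) hQA.le_bot)
    refine le_trans (le_inf ?_ ((Coprime.commutator_le_of_le_normalizer hAP).trans hAQ)) hself
    exact Subgroup.commutator_mono (hA.trans inf_le_left) le_rfl
  refine ⟨h1, ?_⟩
  set L : Subgroup G := H ⊓ Subgroup.centralizer (Q : Set G) with hL
  haveI hLn : L.Normal := inferInstance
  set E : Subgroup G := B ⊓ L with hE
  have hEL : L ≤ Subgroup.normalizer (E : Set G) := by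
    have hdec := Coprime.commutator_sup_centralizer (A := P) (K := L) (hnorm L P)
      (hcop.coprime_dvd_right (Subgroup.card_dvd_of_le inf_le_left))
      (Or.inl (Coprime.isSolvable_of_isPGroup hP))
    have hLP : ⁅L, P⁆ ≤ Q :=
      le_trans (le_inf (Subgroup.commutator_mono inf_le_left le_rfl)
        ((Coprime.commutator_le_of_le_normalizer (hnorm L P)).trans inf_le_right)) hself
    rw [← hdec]
    refine sup_le (hLP.trans ?_) ?_
    · intro x hx
      rw [Subgroup.mem_normalizer_iff]
      intro y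
      have hcomm : ∀ e ∈ E, x * e * x⁻¹ = e := fun e he => by
        rw [Subgroup.mem_centralizer_iff.1 he.2.2 x hx, mul_inv_cancel_right]
      constructor
      · intro hy
        rw [hcomm y hy]
        exact hy
      · intro hy
        have h' := hcomm _ hy
        have : x * y * x⁻¹ = y := mul_left_cancel (a := x) (mul_right_cancel (b := x⁻¹) h')
        rwa [this] at hy
    · intro x hx
      have hxB : x ∈ Subgroup.normalizer (B : Set G) := hBn ⟨hx.1.1, hx.2⟩
      have hxL : x ∈ Subgroup.normalizer (L : Set G) := hnorm L _ hx.1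
      rw [Subgroup.mem_normalizer_iff] at hxB hxL ⊢
      intro y
      rw [hE]
      constructor
      · rintro ⟨h, h'⟩
        exact ⟨(hxB y).1 h, (hxL y).1 h'⟩
      · rintro ⟨h, h'⟩
        exact ⟨(hxB y).2 h, (hxL y).2 h'⟩
  have hEbot : E = ⊥ := by
    haveI : (E.subgroupOf L).Normal :=
      (Subgroup.normal_subgroupOf_iff_le_normalizer inf_le_right).2 hEL
    have hle : E.subgroupOf L ≤ Cfsg.pPrimeCore q ↥L := Cores.le_pPrimeCore (by
      rw [Nat.card_congr (Subgroup.subgroupOfEquivOfLe inf_le_right).toEquiv]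
      exact hBq.coprime_dvd_left (Subgroup.card_dvd_of_le inf_le_left))
    rw [pPrimeCore_sub_eq_bot (inf_le_left : L ≤ H) hcore, le_bot_iff,
      Subgroup.subgroupOf_eq_bot, disjoint_iff] at hle
    exact (inf_eq_left.2 inf_le_right).symm.trans hle
  exact le_bot_iff.1 (hEbot ▸ le_inf inf_le_right
    (le_inf (inf_le_left.trans (hA.trans inf_le_left)) (inf_le_left.trans hAQ)))

end Cfsg.Agent.Lib.CoreControl
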